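import Groth.Agent.Lib.Helper39.AffCompl.Loc
import Groth.Agent.Lib.Helper92.LocCohSeq
import Groth.Agent.Lib.Helper92.LocCohDepth

/-!
# helper39: local-to-global torsion principle for local cohomology

* `exists_smul_eq_zero_of_local` : `p` minimal over `I`, `H^i_{pA_p}(M_p) = 0` ⇒ every
  `ξ ∈ H^i_I(M)` is killed by some `s ∉ p`.
* `exists_pow_smul_eq_zero_of_local` : if `H^i_{pA_p}(M_p) = 0` for all primes `p ⊇ I` with
  `f ∉ p`, then every element of `H^i_I(M)` is killed by a power of `f` (noetherian induction on `I`).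
* `subsingleton_of_local` : the case `f = 1`.
-/

set_option autoImplicit false
universe u
open CategoryTheory CategoryTheory.Limits TensorProduct

namespace Groth.Agent.Lib.Helper39.LCCompare

open Groth.Agent.Lib.Helper92.LC Groth.Agent.Lib.Helper39.AffCompl

variable {A : Type u} [CommRing A] [IsNoetherianRing A]

theorem exists_smul_eq_zero_of_local (I : Ideal A) (p : Ideal A) [p.IsPrime] (hIp : I ≤ p)
    (hmin : ∀ q : Ideal A, q.IsPrime → I ≤ q → q ≤ p → q = p)
    (M : Type u) [AddCommGroup M] [Module A M] (i : ℕ)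
    (hloc : Subsingleton (LocCoh.H (IsLocalRing.maximalIdeal (Localization.AtPrime p)) i
      (LocalizedModule p.primeCompl M)))
    (ξ : (localCohomology I i).obj (ModuleCat.of A M)) : ∃ s : A, s ∉ p ∧ s • ξ = 0 := by
  have h1 : Subsingleton ((localCohomology (I.map (algebraMap A (Localization.AtPrime p))) i).obj
      (ModuleCat.of (Localization.AtPrime p) (LocalizedModule p.primeCompl M))) :=
    ((((localCohomology.isoOfSameRadical (radical_map_eq I p hIp hmin) i).app
      (ModuleCat.of (Localization.AtPrime p)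
        (LocalizedModule p.primeCompl M))).toLinearEquiv.toEquiv)).subsingleton
  have h2 : Subsingleton (LocCoh.H (I.map (algebraMap A (Localization.AtPrime p))) i
      (Localization.AtPrime p ⊗[A] M)) :=
    (((localCohomology (I.map (algebraMap A (Localization.AtPrime p))) i).mapIso
      (LocalizedModule.equivTensorProduct p.primeCompl M).toModuleIso).toLinearEquiv.symm.toEquiv).subsingleton
  obtain ⟨φ⟩ := Helper98.CechFlat.lc_baseChange (Localization.AtPrime p) I M i
  have h3 : Subsingleton (((localCohomology I i).obj (ModuleCat.of A M)) ⊗[A]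
      (Localization.AtPrime p)) := φ.symm.toEquiv.subsingleton
  have h4 : Subsingleton ((Localization.AtPrime p) ⊗[A]
      ((localCohomology I i).obj (ModuleCat.of A M))) :=
    (TensorProduct.comm A (Localization.AtPrime p) _).toEquiv.subsingleton
  have hL : IsLocalizedModule p.primeCompl (TensorProduct.mk A (Localization.AtPrime p)
      ((localCohomology I i).obj (ModuleCat.of A M)) 1) :=
    (isLocalizedModule_iff_isBaseChange p.primeCompl (Localization.AtPrime p) _).2
      (TensorProduct.isBaseChange A _ (Localization.AtPrime p))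
  have h0 : TensorProduct.mk A (Localization.AtPrime p)
      ((localCohomology I i).obj (ModuleCat.of A M)) 1 ξ = 0 := Subsingleton.elim _ _
  obtain ⟨s, hs⟩ := (IsLocalizedModule.eq_zero_iff p.primeCompl _).1 h0
  exact ⟨s, s.2, hs⟩

theorem exists_pow_smul_eq_zero_of_local (f : A) (M : Type u) [AddCommGroup M] [Module A M]
    (i : ℕ) : ∀ I : Ideal A,
    (∀ p : Ideal A, ∀ _ : p.IsPrime, I ≤ p → f ∉ p →
      Subsingleton (LocCoh.H (IsLocalRing.maximalIdeal (Localization.AtPrime p)) i
        (LocalizedModule p.primeCompl M))) →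
    ∀ ξ : (localCohomology I i).obj (ModuleCat.of A M), ∃ n : ℕ, f ^ n • ξ = 0 := by
  intro I
  induction I using IsNoetherian.induction with
  | hgt I ih =>
  intro hyp ξ
  by_contra hξ
  push Not at hξ
  -- the annihilator of `ξ` is contained in `I`
  have hann : ∀ g : A, g • ξ = 0 → g ∈ I := by
    intro g hg
    by_contra hgI
    have hlt : I < I ⊔ Ideal.span {g} := by
      refine lt_of_le_of_ne le_sup_left ?_
      intro heq
      apply hgI
      rw [heq]
      exact Ideal.mem_sup_right (Ideal.subset_span rfl)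
    have hex := (les_sup_span I g i (ModuleCat.of A M)).1
    have hloc0 : Hloc I i g M ξ = 0 := by
      apply smul_injective_Hloc I i g M _ 1
      rw [pow_one, ← map_smul, hg, map_zero]
    obtain ⟨η, rfl⟩ := (hex ξ).1 hloc0
    obtain ⟨n, hn⟩ := ih _ hlt (fun p hp hJp hfp => hyp p hp (le_trans le_sup_left hJp) hfp) η
    apply hξ n
    rw [← map_smul, hn, map_zero]
  -- `I ≠ ⊤`
  have hItop : I ≠ ⊤ := by
    intro htop
    subst htop
    have := subsingleton_H_top i (ModuleCat.of A M)
    apply hξ 0
    exact Subsingleton.elim _ _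
  -- a minimal prime over `I` avoiding `f`
  obtain ⟨p, hp, hfp⟩ : ∃ p ∈ Ideal.minimalPrimes (I : Ideal A), f ∉ p := by
    by_contra hall
    push Not at hall
    have hfrad : f ∈ Ideal.radical (I : Ideal A) := by
      rw [← Ideal.sInf_minimalPrimes, Submodule.mem_sInf]
      exact hall
    obtain ⟨k, hk⟩ := hfrad
    obtain ⟨t, ht⟩ := exists_pow_smul_eq_zero I i ξ
    apply hξ (k * t)
    apply ht
    rw [pow_mul]
    exact Ideal.pow_mem_pow hk t
  have hpprime : p.IsPrime := hp.1.1
  have hIp : I ≤ p := hp.1.2
  have hmin : ∀ q : Ideal A, q.IsPrime → I ≤ q → q ≤ p → q = p := by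
    intro q hq hIq hqp
    exact le_antisymm hqp (hp.2 ⟨hq, hIq⟩ hqp)
  obtain ⟨s, hsp, hs⟩ := exists_smul_eq_zero_of_local I p hIp hmin M i (hyp p hpprime hIp hfp) ξ
  exact hsp (hIp (hann s hs))

theorem subsingleton_of_local (M : Type u) [AddCommGroup M] [Module A M] (i : ℕ) (I : Ideal A)
    (hyp : ∀ p : Ideal A, ∀ _ : p.IsPrime, I ≤ p →
      Subsingleton (LocCoh.H (IsLocalRing.maximalIdeal (Localization.AtPrime p)) i
        (LocalizedModule p.primeCompl M))) :
    Subsingleton ((localCohomology I i).obj (ModuleCat.of A M)) := by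
  refine ⟨fun a b => ?_⟩
  have key : ∀ ξ : (localCohomology I i).obj (ModuleCat.of A M), ξ = 0 := by
    intro ξ
    obtain ⟨n, hn⟩ := exists_pow_smul_eq_zero_of_local 1 M i I
      (fun p hp hIp _ => hyp p hp hIp) ξ
    simpa using hn
  exact (key a).trans (key b).symm

end Groth.Agent.Lib.Helper39.LCCompare
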