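import Groth.Agent.Lib.Helper39.LCCompare.Local

/-!
# helper39: comparison maps `H^i_{I'}(M) → H^i_I(M)` from local vanishing (S1806)
-/

set_option autoImplicit false
universe u
open CategoryTheory CategoryTheory.Limits TensorProduct

namespace Groth.Agent.Lib.Helper39.LCCompare

open Groth.Agent.Lib.Helper92.LC Groth.Agent.Lib.Helper39.AffCompl

section Functoriality

variable {A : Type u} [CommRing A] {I J K : Ideal A}

theorem qmap_comp (h₁ : I ≤ J) (h₂ : J ≤ K) (t : ℕ) :
    qmap h₁ t ≫ qmap h₂ t = qmap (h₁.trans h₂) t := by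
  apply ModuleCat.hom_ext
  apply LinearMap.ext
  intro x
  obtain ⟨x, rfl⟩ := Submodule.Quotient.mk_surjective _ x
  rfl

theorem qmap_refl (t : ℕ) : qmap (le_refl I) t = 𝟙 _ := by
  apply ModuleCat.hom_ext
  apply LinearMap.ext
  intro x
  obtain ⟨x, rfl⟩ := Submodule.Quotient.mk_surjective _ x
  rfl

theorem cmp_trans (h₁ : I ≤ J) (h₂ : J ≤ K) (i : ℕ) (M : ModuleCat.{u} A)
    (η : (localCohomology K i).obj M) :
    cmp (h₁.trans h₂) i M η = cmp h₁ i M (cmp h₂ i M η) := by
  obtain ⟨t, x, rfl⟩ := exists_rep K i η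
  rw [cmp_mk, cmp_mk, cmp_mk, ← qmap_comp h₁ h₂ t, ← Abelian.Ext.mk₀_comp_mk₀,
    Abelian.Ext.comp_assoc _ _ _ (zero_add 0) (zero_add i) (by omega)]

theorem cmp_refl (i : ℕ) (M : ModuleCat.{u} A) (η : (localCohomology I i).obj M) :
    cmp (le_refl I) i M η = η := by
  obtain ⟨t, x, rfl⟩ := exists_rep I i η
  rw [cmp_mk, qmap_refl, Abelian.Ext.mk₀_id_comp]

end Functoriality

variable {A : Type u} [CommRing A] [IsNoetherianRing A]

/-- the local vanishing hypothesis in degree `i` at primes containing `J` and avoiding `f` -/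
def LocVan (M : Type u) [AddCommGroup M] [Module A M] (i : ℕ) (J : Ideal A) (f : A) : Prop :=
  ∀ p : Ideal A, ∀ _ : p.IsPrime, J ≤ p → f ∉ p →
    Subsingleton (LocCoh.H (IsLocalRing.maximalIdeal (Localization.AtPrime p)) i
      (LocalizedModule p.primeCompl M))

variable (M : Type u) [AddCommGroup M] [Module A M]

theorem subsingleton_H_loc (i : ℕ) (J : Ideal A) (f : A) (h : LocVan M i J f) :
    Subsingleton ((localCohomology J i).obj
      (ModuleCat.of A (LocalizedModule (Submonoid.powers f) M))) := by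
  refine ⟨fun a b => ?_⟩
  have key : ∀ y : (localCohomology J i).obj
      (ModuleCat.of A (LocalizedModule (Submonoid.powers f) M)), y = 0 := by
    intro y
    obtain ⟨n, x, hx⟩ := Hloc_surj J i f M y
    obtain ⟨k, hk⟩ := exists_pow_smul_eq_zero_of_local f M i J h x
    apply smul_injective_Hloc J i f M y (k + n)
    rw [pow_add, mul_smul, ← hx, ← map_smul, hk, map_zero]
  exact (key a).trans (key b).symm

theorem cmp_surjective_step (i : ℕ) (J : Ideal A) (f : A) (h : LocVan M i J f) :
    Function.Surjective (cmp (le_sup_span J f) i (ModuleCat.of A M)) := by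
  intro ξ
  have hex := (les_sup_span J f i (ModuleCat.of A M)).1
  have := subsingleton_H_loc M i J f h
  exact (hex ξ).1 (Subsingleton.elim _ _)

theorem cmp_injective_step (j : ℕ) (J : Ideal A) (f : A) (h : LocVan M j J f) :
    Function.Injective (cmp (le_sup_span J f) (j + 1) (ModuleCat.of A M)) := by
  rw [injective_iff_map_eq_zero]
  intro η hη
  obtain ⟨-, d, -, h2⟩ := les_sup_span J f j (ModuleCat.of A M)
  obtain ⟨y, rfl⟩ := (h2 η).1 hη
  have := subsingleton_H_loc M j J f h
  rw [Subsingleton.elim y 0, map_zero]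

theorem cmp_injective_step' (i : ℕ) (J : Ideal A) (f : A)
    (h : ∀ j : ℕ, j + 1 = i → LocVan M j J f) :
    Function.Injective (cmp (le_sup_span J f) i (ModuleCat.of A M)) := by
  cases i with
  | zero => exact cmp_zero_injective _
  | succ j => exact cmp_injective_step M j J f (h j rfl)

/-- induction over a list of generators -/
theorem cmp_surjective_list (i : ℕ) (I I' : Ideal A) (l : List A) (hl : ∀ g ∈ l, g ∈ I')
    (h : ∀ p : Ideal A, ∀ _ : p.IsPrime, I ≤ p → ¬ I' ≤ p →
      Subsingleton (LocCoh.H (IsLocalRing.maximalIdeal (Localization.AtPrime p)) i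
        (LocalizedModule p.primeCompl M))) :
    ∀ hle : I ≤ I ⊔ Ideal.span {x | x ∈ l},
      Function.Surjective (cmp hle i (ModuleCat.of A M)) := by
  induction l with
  | nil =>
    intro hle
    have e : I ⊔ Ideal.span {x | x ∈ ([] : List A)} = I := by simp
    intro ξ
    revert hle
    rw [e]
    intro hle
    exact ⟨ξ, cmp_refl i _ ξ⟩
  | cons g l ih =>
    intro hle
    have hl' : ∀ g ∈ l, g ∈ I' := fun x hx => hl x (List.mem_cons_of_mem _ hx)
    have ih' := ih hl' le_sup_left
    have e : I ⊔ Ideal.span {x | x ∈ g :: l} = (I ⊔ Ideal.span {x | x ∈ l}) ⊔ Ideal.span {g} := by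
      have : {x | x ∈ g :: l} = {x | x ∈ l} ∪ {g} := by
        ext x
        simp
      rw [this, Ideal.span_union, sup_assoc]
    revert hle
    rw [e]
    intro hle
    have hstep := cmp_surjective_step M i (I ⊔ Ideal.span {x | x ∈ l}) g (by
      intro p hp hJp hgp
      exact h p hp (le_trans le_sup_left hJp) (fun hI'p => hgp (hI'p (hl g List.mem_cons_self))))
    intro ξ
    obtain ⟨η, rfl⟩ := ih' ξ
    obtain ⟨ζ, rfl⟩ := hstep η
    exact ⟨ζ, cmp_trans _ _ i _ ζ⟩

theorem cmp_injective_list (i : ℕ) (I I' : Ideal A) (l : List A) (hl : ∀ g ∈ l, g ∈ I')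
    (h : ∀ p : Ideal A, ∀ _ : p.IsPrime, I ≤ p → ¬ I' ≤ p → ∀ j : ℕ, j + 1 = i →
      Subsingleton (LocCoh.H (IsLocalRing.maximalIdeal (Localization.AtPrime p)) j
        (LocalizedModule p.primeCompl M))) :
    ∀ hle : I ≤ I ⊔ Ideal.span {x | x ∈ l},
      Function.Injective (cmp hle i (ModuleCat.of A M)) := by
  induction l with
  | nil =>
    intro hle
    have e : I ⊔ Ideal.span {x | x ∈ ([] : List A)} = I := by simp
    revert hle
    rw [e]
    intro hle ξ ξ' hξ
    rwa [cmp_refl, cmp_refl] at hξ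
  | cons g l ih =>
    intro hle
    have hl' : ∀ g ∈ l, g ∈ I' := fun x hx => hl x (List.mem_cons_of_mem _ hx)
    have ih' := ih hl' le_sup_left
    have e : I ⊔ Ideal.span {x | x ∈ g :: l} = (I ⊔ Ideal.span {x | x ∈ l}) ⊔ Ideal.span {g} := by
      have : {x | x ∈ g :: l} = {x | x ∈ l} ∪ {g} := by
        ext x
        simp
      rw [this, Ideal.span_union, sup_assoc]
    revert hle
    rw [e]
    intro hle
    have hstep := cmp_injective_step' M i (I ⊔ Ideal.span {x | x ∈ l}) g (by
      intro j hj p hp hJp hgp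
      exact h p hp (le_trans le_sup_left hJp)
        (fun hI'p => hgp (hI'p (hl g List.mem_cons_self))) j hj)
    intro ζ ζ' hζ
    have h1 : cmp (le_sup_left.trans (le_sup_span _ g)) i (ModuleCat.of A M) ζ =
        cmp (le_sup_left.trans (le_sup_span _ g)) i (ModuleCat.of A M) ζ' := hζ
    have e1 := cmp_trans (I := I) le_sup_left (le_sup_span (I ⊔ Ideal.span {x | x ∈ l}) g) i
      (ModuleCat.of A M) ζ
    have e2 := cmp_trans (I := I) le_sup_left (le_sup_span (I ⊔ Ideal.span {x | x ∈ l}) g) i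
      (ModuleCat.of A M) ζ'
    exact hstep (ih' (e1.symm.trans (h1.trans e2)))

end Groth.Agent.Lib.Helper39.LCCompare
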